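import Cfsg.Agent.H79.RIM.OOdd
import Cfsg.Agent.H568.RIM.Three
import Cfsg.Agent.H521.RIM.ThreeB

/-!
# S4816: the row of the odd orthogonal groups, cross characteristic (helper79)
-/

set_option autoImplicit false

namespace Cfsg.Agent.H79.RIM

open Cfsg Cfsg.Agent.H665.RIM

theorem finite_of {F : Type*} [Field F] [Fintype F] (ho : Odd (Fintype.card F)) {m : ℕ} (hm : 3 ≤ m) :
    Finite (POmega F (quadFormOdd m F)) := Nat.finite_of_card_ne_zero (by
  intro h0
  have h1 := S0292.result (F := F) rfl ho m hm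
  rw [h0, mul_zero] at h1
  have h3 : 1 < Fintype.card F := Fintype.one_lt_card
  have h4 : Fintype.card F ^ (m ^ 2) * ∏ i ∈ Finset.range m, (Fintype.card F ^ (2 * (i + 1)) - 1) ≠ 0 := by
    refine mul_ne_zero (pow_ne_zero _ (by omega)) (Finset.prod_ne_zero_iff.2 fun i _ => ?_)
    have := Nat.one_lt_pow (n := 2 * (i + 1)) (by omega) h3
    omega
  exact h4 h1.symm)

theorem three : Three := by
  intro F _ _ p hp ho hq h1 h2
  obtain ⟨r, hr⟩ := CharP.exists F
  have hrp : Fact r.Prime := ⟨CharP.char_is_prime F r⟩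
  obtain ⟨T, n, X, R, hW, hG, hy, hz, hT, hN, hcm⟩ := H568.RIM.dat_odd (K := F) (r := r) (two_ne_of_odd ho)
  have hfin : Finite (POmega F (quadFormOdd 3 F)) := finite_of ho le_rfl
  have hr2 : r ≠ 2 := by
    rintro rfl
    exact not_char_dvd (F := F) (r := 2) ho (dvd_refl 2)
  exact H521.RIM.Three.nb_three R hG hy hz (by rwa [Nat.card_eq_fintype_card]) hT hN hcm hp
    (by rwa [Nat.card_eq_fintype_card]) (by rwa [Nat.card_eq_fintype_card]) hr2

open Cfsg.Agent.H325.RIM Cfsg.Agent.OrdDiv Cfsg.Agent.H436 in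
/-- **The field `oodd` of `RowsNB`.** -/
theorem row_oodd (p m q : ℕ) (hp : p.Prime) (_h2 : p ≠ 2) (hpq : ¬ p ∣ q) (hex : ¬ (m = 3 ∧ q = 3)) :
    NBRow p (.oodd m q) :=
  row_of three p m q hp hpq hex

end Cfsg.Agent.H79.RIM
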